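import Cfsg.Agent.H0.TC
set_option maxRecDepth 100000
namespace H0.TCHZ2
open H0
noncomputable def r0 : TC.WTr := (.node (.node (.node (.node (.node (.node (.leaf [1] 0 0 false) (.leaf [3, 0, 3, 0] 15 0 true)) (.node (.leaf [3] 2 0 false) (.leaf [5, 3, 4, 0] 22 3 false))) (.node (.node (.leaf [2, 4, 1, 2] 15 2 false) (.leaf [6, 1, 4, 2] 22 0 true)) (.leaf [2] 2 1 false))) (.node (.node (.node (.leaf [3, 0, 4, 3] 15 2 true) (.leaf [1, 6, 4, 3] 23 1 false)) (.leaf [3] 2 0 false)) (.node (.node (.leaf [0] 0 1 false) (.leaf [5, 0, 3, 6, 1] 24 4 false)) (.leaf [4] 4 0 false)))) (.node (.node (.node (.node (.leaf [2, 5, 0, 2] 16 2 false) (.leaf [4] 4 0 false)) (.leaf [3] 2 0 false)) (.node (.node (.leaf [3, 0, 2, 1, 3, 0, 2, 1, 3, 0, 2] 19 2 false) (.leaf [6] 6 0 false)) (.leaf [2] 2 1 false))) (.node (.node (.node (.leaf [1] 0 0 false) (.leaf [3, 4, 0, 6] 22 4 false)) (.leaf [3, 3] 14 0 true)) (.node (.node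 (.leaf [3] 2 0 false) (.leaf [4, 3, 5, 1] 23 3 false)) (.leaf [3, 5, 1, 6] 23 4 false))))) (.node (.node (.node (.node (.node (.leaf [0, 0, 0] 13 0 false) (.leaf [4] 4 0 false)) (.leaf [3] 2 0 false)) (.node (.node (.leaf [3, 1, 5, 3] 16 2 true) (.leaf [2, 4, 6, 0] 23 3 true)) (.leaf [2] 2 1 false))) (.node (.node (.node (.leaf [1] 0 0 false) (.leaf [0, 2, 0, 2] 16 4 false)) (.leaf [2] 2 1 false)) (.node (.node (.leaf [0] 0 1 false) (.leaf [1, 6, 5, 0, 3] 24 2 false)) (.leaf [0, 6, 5, 3] 22 1 false)))) (.node (.node (.node (.node (.leaf [6, 5, 3, 4] 22 2 false) (.leaf [5] 5 0 false)) (.leaf [3] 2 0 false)) (.node (.node (.leaf [0] 0 1 false) (.leaf [3, 6, 3] 21 0 true)) (.leaf [2] 2 1 false))) (.node (.node (.node (.leaf [0] 0 1 false) (.leaf [4, 5, 4] 7 1 false)) (.leaf [0, 4, 3, 0] 15 3 true)) (.node (.node (.leaf [0, 2, 5, 0] 16 1 false) (.leaf [1, 4, 2, 5] 22 1 true)) (.leaf [1, 2, 1, 2] 15 4 false))))))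
noncomputable def tS : Tr := (.leaf (nat_lit 0xffc83a3735740fb7ff9247b72d0e6737ffb1a5390e3a2898ffd7320d8365a54eff2563472a0d4676ff42364e0d375c28ff7d89715c470d26ff1b191a1b003639ff285bb20028b323ffa6442822213500ff3728201f1e001dff000000100f0e0d))
noncomputable def tJ : Tr := (.leaf (nat_lit 0x1066421b0203001824305238012400490003203001900302229002104532091201111800300328030000000008100000080007770000))
noncomputable def tQ : Tr := (.leaf (nat_lit 0x0))
noncomputable def tR : TC.WTr := r0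
def hl : List ℕ := [4, 5, 6]
def B : List (List ℕ) := [[0, 1], [1, 0], [2, 3], [3, 2], [4, 4], [5, 5], [6, 6], [4, 5, 4, 5], [4, 5, 4, 5], [4, 6, 4, 6], [4, 6, 4, 6], [5, 6, 5, 6], [5, 6, 5, 6], [0, 0, 0, 0], [2, 2, 2], [1, 2, 1, 2, 4], [0, 2, 0, 2, 5], [0, 3, 1, 2, 0, 6], [0, 2, 0, 2, 0, 2, 0, 2], [0, 2, 1, 3, 0, 2, 1, 3, 0, 2, 1, 3], [0, 3, 0, 3, 0, 3, 0, 3], [2, 6, 2, 6], [3, 4, 0, 6, 5], [3, 5, 1, 6, 4], [0, 3, 6, 1, 6, 5]]
def subs : List (List ℕ) := [[4], [5], [6]]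
def ex : List (List ℕ) := []
def inv (x : ℕ) : ℕ := [1, 0, 3, 2, 4, 5, 6].getD x 0
noncomputable def rS : ℕ → ℕ := rowOf tS (nat_lit 8) (nat_lit 255) (nat_lit 64) (nat_lit 18446744073709551615)
noncomputable def rJ : ℕ → ℕ := rowOf tJ (nat_lit 8) (nat_lit 255) (nat_lit 36) (nat_lit 68719476735)
noncomputable def C : TC.Cfg where
  S := look rS (nat_lit 8) (nat_lit 255)
  J := look rJ (nat_lit 4) (nat_lit 15)
  Q := lookQ tQ (nat_lit 8) (nat_lit 1) (nat_lit 1)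
  R := tR.get
  hl := fun x => hl.contains x
  n := (nat_lit 12)
  M := (nat_lit 12)
  top := (nat_lit 216)
  nl := (nat_lit 7)
  need := (nat_lit 7)
  nr := (nat_lit 7)
theorem k0 : TC.chkRange C 0 1 = true := by decide +kernel
theorem rows0 : ∀ c < (0 + 1) * 64, c < C.M → TC.chkRow C c = true :=
  TC.rows_step (TC.rows_zero C) k0
theorem main {G : Type*} [Group G] (g : ℕ → G) (hB : ∀ r ∈ B, ev g r = 1) (H : Subgroup G)
    (hH : ∀ w ∈ subs, ev g w ∈ H) :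
    H.relIndex (Subgroup.closure (g '' {x | x < 7})) ≠ 0 ∧
      H.relIndex (Subgroup.closure (g '' {x | x < 7})) ≤ 12 :=
  TC.index_le C B subs ex inv hl tR.hint rfl (by decide +kernel) (by decide +kernel)
    (TC.rows_done rows0 (by decide +kernel)) g hB H hH
end H0.TCHZ2
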